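import Cfsg.Agent.H148.Oct.Quat
import Cfsg.Agent.H148.Oct.Parab
import Cfsg.Agent.H638.G2Iso
import Cfsg.Agent.S1055

/-!
# Five separated subgroups of `G₂(q)`, `q ≥ 3` (helper148, for S5906 and S5907)

* two maximal parabolic subgroups (root group datum);
* the stabilizers of a split and of a nonsplit two-dimensional composition subalgebra of the octonions
  (`SL₃(q):2`, `SU₃(q):2`): maximal subgroups;
* the stabilizer of a quaternion subalgebra.
-/

set_option autoImplicit false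
set_option linter.unusedSimpArgs false

namespace Cfsg.Agent.H148.Oct

open Cfsg.Lie Cfsg.Agent.H161.Oct Cfsg.Agent.H940.MaxCls

/-- `G2` and `AutO` -/
noncomputable def g2AutO (K : Type*) [Field K] : Cfsg.Lie.G2 K ≃* ↥(AutO K) where
  toFun g := ⟨toE K g.1, toE_mem.2 g.2⟩
  invFun f := ⟨(toE K).symm f.1, by
    rw [← toE_mem, MulEquiv.apply_symm_apply]; exact f.2⟩
  left_inv g := by
    apply Subtype.ext
    exact (toE K).symm_apply_apply g.1
  right_inv f := by
    apply Subtype.ext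
    exact (toE K).apply_symm_apply f.1
  map_mul' g h := by
    apply Subtype.ext
    exact map_mul (toE K) g.1 h.1

theorem nonempty_equiv (F : Type*) [Field F] [Finite F] : Nonempty (↥(AutO F) ≃* ↥(chevG2.group F)) := by
  obtain ⟨e⟩ := Cfsg.Agent.H638.G2Iso.equiv (F := F)
  exact ⟨(g2AutO F).symm.trans e⟩

theorem card_AutO (F : Type*) [Field F] [Fintype F] :
    Nat.card ↥(AutO F) = Fintype.card F ^ 6 * (Fintype.card F ^ 2 - 1) * (Fintype.card F ^ 6 - 1) := by
  rw [← Nat.card_congr (g2AutO F).toEquiv, Cfsg.Agent.H638.G2Iso.card_G2, Nat.card_eq_fintype_card]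

theorem simple_AutO (F : Type*) [Field F] [Finite F] (hF : ∃ a : F, a ≠ 0 ∧ a ≠ 1) : IsSimpleGroup ↥(AutO F) := by
  obtain ⟨e⟩ := nonempty_equiv F
  have := (Cfsg.Agent.S1055.result hF).1
  have : Nontrivial ↥(AutO F) := e.toEquiv.nontrivial
  exact IsSimpleGroup.isSimpleGroup_of_surjective e.symm.toMonoidHom e.symm.surjective

section

variable {F : Type*} [Field F] [Fintype F]

theorem exists_of_card (h3 : 3 ≤ Fintype.card F) : ∃ a : F, a ≠ 0 ∧ a ≠ 1 := by
  classical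
  by_contra hc
  push Not at hc
  have h1 : (Finset.univ : Finset F) ⊆ {0, 1} := by
    intro a _
    by_cases h0 : a = 0
    · simp [h0]
    · simp [hc a h0]
  have h2 := Finset.card_le_card h1
  rw [Finset.card_univ] at h2
  have h4 : ({0, 1} : Finset F).card ≤ 2 := Finset.card_le_two
  omega

/-- a norm such that the quadratic polynomial has no root -/
theorem exists_ns : ∃ n : F, ∀ α : F, α ^ 2 - 1 * α + n ≠ 0 := by
  by_contra hc
  push Not at hc
  have hs : Function.Surjective (fun α : F => α - α ^ 2) := by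
    intro n
    obtain ⟨α, hα⟩ := hc n
    refine ⟨α, ?_⟩
    show α - α ^ 2 = n
    linear_combination -hα
  have hi := Finite.injective_iff_surjective.2 hs
  have h : (0 : F) = 1 := hi (by simp)
  exact zero_ne_one h

omit [Fintype F] in
theorem disc_ns {n : F} (hn : ∀ α : F, α ^ 2 - 1 * α + n ≠ 0) : (1 : F) ^ 2 ≠ 4 * n := by
  intro h
  apply hn (2 * n)
  linear_combination -n * h

open scoped Classical in
theorem card_roots_ns {n : F} (hn : ∀ α : F, α ^ 2 - 1 * α + n ≠ 0) :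
    (Finset.univ.filter fun α : F => α ^ 2 - 1 * α + n = 0).card = 0 := by
  rw [Finset.card_eq_zero, Finset.filter_eq_empty_iff]
  exact fun α _ => hn α

open scoped Classical in
theorem card_roots_s : (Finset.univ.filter fun α : F => α ^ 2 - 1 * α + 0 = 0).card = 2 := by
  have : (Finset.univ.filter fun α : F => α ^ 2 - 1 * α + 0 = 0) = {0, 1} := by
    ext α
    simp only [Finset.mem_filter, Finset.mem_univ, true_and, Finset.mem_insert, Finset.mem_singleton]
    constructor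
    · intro h
      have : α * (α - 1) = 0 := by linear_combination h
      rcases mul_eq_zero.1 this with h | h
      · exact Or.inl h
      · exact Or.inr (by linear_combination h)
    · rintro (h | h) <;> rw [h] <;> ring
  rw [this, Finset.card_pair zero_ne_one]

/-- the numerical data of the stabilizer -/
theorem exists_num (h3 : 3 ≤ Fintype.card F) {n t : F} (hd : t ^ 2 ≠ 4 * n) : ∃ ε L : ℕ, (ε = 1 ∨ ε = 2) ∧
    Nat.card ↥(MM n t) = ε * L ∧ Nat.card ↥(Gam n t) * L =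
      Fintype.card F ^ 6 * (Fintype.card F ^ 2 - 1) * (Fintype.card F ^ 6 - 1) := by
  have h1 := card_LL_mul (exists_of_card h3) hd
  rw [card_AutO] at h1
  rcases card_MM hd with h | h
  · exact ⟨1, _, Or.inl rfl, by rw [h, one_mul], h1⟩
  · exact ⟨2, _, Or.inr rfl, h, h1⟩

/-- the parabolic subgroups are too big at the characteristic -/
theorem not_dvd_MM (h3 : 3 ≤ Fintype.card F) {n t : F} (hd : t ^ 2 ≠ 4 * n) :
    ¬ Fintype.card F ^ 6 ∣ Nat.card ↥(MM n t) := by
  intro h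
  obtain ⟨ε, L, hε, h1, h2⟩ := exists_num h3 hd
  set q := Fintype.card F with hq
  have h4 : q ^ 3 ∣ Nat.card ↥(Gam n t) := by
    rw [card_Gam, ← mul_add]
    exact Dvd.intro _ rfl
  have h5 : q ^ 6 * q ^ 3 ∣ q ^ 6 * (2 * ((q ^ 2 - 1) * (q ^ 6 - 1))) := by
    have e1 : q ^ 6 * q ^ 3 ∣ (ε * L) * Nat.card ↥(Gam n t) := by
      rw [h1] at h
      exact Nat.mul_dvd_mul h h4
    have e2 : (ε * L) * Nat.card ↥(Gam n t) ∣ q ^ 6 * (2 * ((q ^ 2 - 1) * (q ^ 6 - 1))) := by
      have e3 : q ^ 6 * (2 * ((q ^ 2 - 1) * (q ^ 6 - 1))) = 2 * (Nat.card ↥(Gam n t) * L) := by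
        rw [h2]; ring
      rw [e3]
      have e4 : (ε * L) * Nat.card ↥(Gam n t) = ε * (Nat.card ↥(Gam n t) * L) := by ring
      rw [e4]
      refine Nat.mul_dvd_mul_right ?_ _
      rcases hε with rfl | rfl
      · exact one_dvd 2
      · exact dvd_rfl
    exact e1.trans e2
  have h6 : q ^ 3 ∣ 2 * ((q ^ 2 - 1) * (q ^ 6 - 1)) :=
    Nat.dvd_of_mul_dvd_mul_left (Nat.pow_pos (by omega)) h5
  have hc : ∀ k : ℕ, 0 < k → Nat.Coprime q (q ^ k - 1) := by
    intro k hk
    have e1 : 1 ≤ q ^ k := Nat.one_le_pow _ _ (by omega)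
    refine Nat.Coprime.coprime_dvd_left (dvd_pow_self q hk.ne') ?_
    rw [Nat.coprime_self_sub_right e1]
    exact Nat.coprime_one_right _
  have h7 : q ^ 3 ∣ 2 :=
    Nat.Coprime.dvd_of_dvd_mul_right (Nat.Coprime.mul_right ((hc 2 (by omega)).pow_left 3)
      ((hc 6 (by omega)).pow_left 3)) h6
  have h8 := Nat.le_of_dvd (by omega) h7
  have h9 : 3 ^ 3 ≤ q ^ 3 := Nat.pow_le_pow_left h3 3
  omega

/-- the two stabilizers have different orders -/
theorem card_MM_ne (h3 : 3 ≤ Fintype.card F) {n : F} (hn : ∀ α : F, α ^ 2 - 1 * α + n ≠ 0) :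
    Nat.card ↥(MM (0 : F) 1) ≠ Nat.card ↥(MM n 1) := by
  intro h
  obtain ⟨ε, L, hε, h1, h2⟩ := exists_num h3 (show (1 : F) ^ 2 ≠ 4 * 0 by simp)
  obtain ⟨δ, M, hδ, k1, k2⟩ := exists_num h3 (disc_ns hn)
  rw [card_Gam, card_roots_s] at h2
  rw [card_Gam, card_roots_ns hn] at k2
  rw [h1, k1] at h
  have hA : 0 < Nat.card ↥(AutO F) := by
    have : Finite (V F ≃ₗ[F] V F) := Finite.of_injective (fun f => (f : V F → V F)) DFunLike.coe_injective
    exact Nat.card_pos
  rw [card_AutO] at hA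
  set q := Fintype.card F with hq
  set N := q ^ 6 * (q ^ 2 - 1) * (q ^ 6 - 1) with hN
  have hq3 : 3 ^ 3 ≤ q ^ 3 := Nat.pow_le_pow_left h3 3
  obtain ⟨s, hs⟩ : ∃ s, q ^ 3 = s + 1 := ⟨q ^ 3 - 1, by omega⟩
  rw [hs] at h2 k2
  have e1 : s + 1 - 1 = s := by omega
  rw [e1] at h2 k2
  have hs26 : 26 ≤ s := by omega
  -- `ε * L = δ * M`, `(s+1)(s+2) L = N`, `(s+1) s M = N`
  have e2 : ε * ((s + 1) * s) * N = δ * ((s + 1) * s + (s + 1) * 2) * N := by
    calc ε * ((s + 1) * s) * N = (ε * L) * ((s + 1) * s) * ((s + 1) * s + (s + 1) * 2) := by rw [← h2]; ring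
      _ = (δ * M) * ((s + 1) * s) * ((s + 1) * s + (s + 1) * 2) := by rw [h]
      _ = δ * ((s + 1) * s + (s + 1) * 2) * ((((s + 1) * s + (s + 1) * 0)) * M) := by ring
      _ = δ * ((s + 1) * s + (s + 1) * 2) * N := by rw [k2]
  have e3 : ε * ((s + 1) * s) = δ * ((s + 1) * s + (s + 1) * 2) := Nat.eq_of_mul_eq_mul_right hA e2
  have e4 : (s + 1) * (ε * s) = (s + 1) * (δ * (s + 2)) := by
    calc (s + 1) * (ε * s) = ε * ((s + 1) * s) := by ring
      _ = δ * ((s + 1) * s + (s + 1) * 2) := e3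
      _ = _ := by ring
  have e5 : ε * s = δ * (s + 2) := Nat.eq_of_mul_eq_mul_left (by omega) e4
  rcases hε with rfl | rfl <;> rcases hδ with rfl | rfl <;> omega

/-- the quaternion stabilizer is not contained in a parabolic subgroup -/
theorem not_dvd_KK (h3 : 3 ≤ Fintype.card F) :
    ¬ Nat.card ↥(KK F) ∣ Fintype.card F ^ 6 * (Fintype.card F - 1) ^ 2 * (Fintype.card F + 1) := by
  intro h
  have h1 := (card_KK (K := F)).trans h
  set q := Fintype.card F with hq
  obtain ⟨s, hs⟩ : ∃ s, q = s + 1 := ⟨q - 1, by omega⟩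
  have e1 : q ^ 2 - 1 = s * (s + 2) := by
    rw [hs]
    have : (s + 1) ^ 2 = s * (s + 2) + 1 := by ring
    omega
  have e2 : q - 1 = s := by omega
  rw [e1, e2, hs] at h1
  have hs0 : 0 < s := by omega
  have h2 : (s ^ 2 * (s + 2) * (s + 1)) * (s + 2) ∣ (s ^ 2 * (s + 2) * (s + 1)) * (s + 1) ^ 5 := by
    have a1 : s * (s + 2) * ((s + 1) * (s * (s + 2))) = (s ^ 2 * (s + 2) * (s + 1)) * (s + 2) := by ring
    have a2 : (s + 1) ^ 6 * s ^ 2 * (s + 1 + 1) = (s ^ 2 * (s + 2) * (s + 1)) * (s + 1) ^ 5 := by ring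
    rwa [a1, a2] at h1
  have h4 : s + 2 ∣ (s + 1) ^ 5 := Nat.dvd_of_mul_dvd_mul_left (by positivity) h2
  have h5 : Nat.Coprime (s + 2) ((s + 1) ^ 5) := by
    refine Nat.Coprime.pow_right 5 ?_
    have : s + 2 = 1 + (s + 1) := by ring
    rw [this, Nat.coprime_add_self_left]
    exact Nat.coprime_one_left _
  have h6 := Nat.Coprime.eq_one_of_dvd h5 h4
  omega

end

/-- **Five separated subgroups of `G₂(q)`, `q ≥ 3`.** -/
theorem sep_chevG2 (F : Type) [Field F] [Fintype F] (h3 : 3 ≤ Fintype.card F) :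
    Sep 5 ↥(Lie.chevG2.group F) := by
  have hK : ∃ a : F, a ≠ 0 ∧ a ≠ 1 := exists_of_card h3
  obtain ⟨e⟩ := nonempty_equiv F
  have hs := simple_AutO F hK
  obtain ⟨n, hn⟩ := exists_ns (F := F)
  have hd1 : (1 : F) ^ 2 ≠ 4 * 0 := by simp
  have hd2 := disc_ns hn
  have hfin : Finite (V F ≃ₗ[F] V F) := Finite.of_injective (fun f => (f : V F → V F)) DFunLike.coe_injective
  have hfin' : Finite ↥(Lie.chevG2.group F) := Finite.of_equiv _ e.toEquiv
  obtain ⟨P, hP1, hP2, hP3, hP4⟩ := Parab.exists_parab F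
  have hc1 : IsCoatom (MM (0 : F) 1) := isCoatom_MM hK hd1
  have hc2 : IsCoatom (MM n 1) := isCoatom_MM hK hd2
  have hcm : ∀ A : Subgroup ↥(AutO F), Nat.card (A.map e.toMonoidHom) = Nat.card A := fun A =>
    Nat.card_congr (Subgroup.equivMapOfInjective A e.toMonoidHom e.injective).toEquiv.symm
  have hcoat : ∀ A : Subgroup ↥(AutO F), IsCoatom A → IsCoatom (A.map e.toMonoidHom) := fun A hA =>
    (OrderIso.isCoatom_iff e.mapSubgroup A).2 hA
  -- parabolic subgroups and stabilizers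
  have key : ∀ (m : F), (1 : F) ^ 2 ≠ 4 * m → IsCoatom (MM m 1) → ∀ i, Apart (P i) ((MM m 1).map e.toMonoidHom) := by
    intro m hm hc i
    refine Apart.symm (apart_of_coatom (hcoat _ hc) fun g => ?_)
    by_contra hcon
    push Not at hcon
    have h1 := Subgroup.card_dvd_of_le (map_conj_le hcon)
    rw [card_map_conj, hcm, hP3] at h1
    refine not_dvd_MM h3 hm (Dvd.dvd.trans ?_ h1)
    rw [mul_assoc]
    exact Dvd.intro _ rfl
  have hPK : ∀ i, Apart (P i) ((KK F).map e.toMonoidHom) := hP4 _ (by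
    rw [hcm]
    exact not_dvd_KK h3)
  exact sep_five (hP1 0) (hP1 1) (map_equiv_ne_top hc1.1 e) (map_equiv_ne_top hc2.1 e) (map_equiv_ne_top KK_ne_top e)
    hP2 (key 0 hd1 hc1 0) (key n hd2 hc2 0) (hPK 0) (key 0 hd1 hc1 1) (key n hd2 hc2 1) (hPK 1)
    ((apart_of_coatoms hc1 hc2 (card_MM_ne h3 hn)).map_equiv e)
    ((apart_of_coatom hc1 (exists_conj_notMem hK 0 1)).map_equiv e)
    ((apart_of_coatom hc2 (exists_conj_notMem hK n 1)).map_equiv e)

/-- **Groups of type `G₂(q)`, `q ≥ 3`.** -/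
theorem sep_isoChevG2 {G : Type*} [Group G] (hG : Lie.IsoChevG2 G) : Sep 5 G := by
  obtain ⟨F, i1, i2, h3, ⟨e⟩⟩ := hG
  exact (sep_chevG2 F h3).of_mulEquiv e.symm

end Cfsg.Agent.H148.Oct
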