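import Cfsg.Agent.H148.Oct.Coatom

/-!
# Octonions: the number of vectors of given trace and norm (helper148)
-/

set_option autoImplicit false
set_option linter.unusedSimpArgs false

namespace Cfsg.Agent.H148.Oct

open Cfsg.Lie Cfsg.Agent.H161.Oct

open scoped Classical in
/-- the fibres of a surjective additive map have the same cardinality -/
theorem card_fib {A B : Type*} [AddGroup A] [AddGroup B] [Fintype A] [Fintype B] (f : A →+ B)
    (hf : Function.Surjective f) (c : B) :
    (Finset.univ.filter fun a => f a = c).card * Fintype.card B = Fintype.card A := by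
  classical
  have h1 : ∀ b : B, (Finset.univ.filter fun a => f a = b).card = (Finset.univ.filter fun a => f a = c).card :=
    fun b => AddMonoidHom.card_fiber_eq_of_mem_range f (hf b) (hf c)
  have h2 : Fintype.card A = ∑ b : B, (Finset.univ.filter fun a => f a = b).card := by
    rw [← Finset.card_univ]
    exact Finset.card_eq_sum_card_fiberwise (f := fun a => f a) (t := Finset.univ) (fun _ _ => Finset.mem_coe.2 (Finset.mem_univ _))
  rw [h2, Finset.sum_congr rfl fun b _ => h1 b, Finset.sum_const, Finset.card_univ, smul_eq_mul, mul_comm]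

variable {K : Type*} [Field K]

/-- the dot product with a given vector -/
def dl (a : Fin 3 → K) : (Fin 3 → K) →+ K where
  toFun b := a 0 * b 0 + a 1 * b 1 + a 2 * b 2
  map_zero' := by simp
  map_add' b c := by simp only [Pi.add_apply]; ring

theorem dl_apply (a b : Fin 3 → K) : dl a b = a 0 * b 0 + a 1 * b 1 + a 2 * b 2 := rfl

theorem dl_surj {a : Fin 3 → K} (ha : a ≠ 0) : Function.Surjective (dl a) := by
  obtain ⟨i, hi⟩ := Function.ne_iff.1 ha
  rw [Pi.zero_apply] at hi
  intro c
  refine ⟨Pi.single i (c / a i), ?_⟩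
  rw [dl_apply]
  fin_cases i
  · have h0 : a 0 ≠ 0 := hi
    simp; field_simp
  · have h0 : a 1 ≠ 0 := hi
    simp; field_simp
  · have h0 : a 2 ≠ 0 := hi
    simp; field_simp

/-- the vectors of trace `t` and norm `n` -/
def Gam (n t : K) : Set (V K) := {w | tr w = t ∧ nm w = n}

/-- coordinates on `Gam` -/
def gamEquiv (n t : K) : ↥(Gam n t) ≃
    {p : K × (Fin 3 → K) × (Fin 3 → K) // dl p.2.1 p.2.2 = p.1 * (t - p.1) - n} where
  toFun w := ⟨(w.1 0, ![w.1 1, w.1 2, w.1 3], ![w.1 4, w.1 5, w.1 6]), by
    obtain ⟨h1, h2⟩ := w.2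
    rw [tr] at h1
    rw [nm] at h2
    rw [dl_apply]
    simp only [Matrix.cons_val_zero, Matrix.cons_val_one, Matrix.cons_val]
    linear_combination w.1 0 * h1 - h2⟩
  invFun p := ⟨![p.1.1, p.1.2.1 0, p.1.2.1 1, p.1.2.1 2, p.1.2.2 0, p.1.2.2 1, p.1.2.2 2, t - p.1.1], by
    have h := p.2
    rw [dl_apply] at h
    refine ⟨?_, ?_⟩
    · simp [tr]
    · simp only [nm, Matrix.cons_val_zero, Matrix.cons_val_one, Matrix.cons_val]
      rw [h]
      ring⟩
  left_inv w := by
    apply Subtype.ext
    have h1 : tr w.1 = t := w.2.1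
    rw [tr] at h1
    apply ext8 <;> simp
    linear_combination -h1
  right_inv p := by
    apply Subtype.ext
    refine Prod.ext rfl (Prod.ext ?_ ?_)
    · funext i
      fin_cases i <;> rfl
    · funext i
      fin_cases i <;> rfl

open scoped Classical in
/-- the number of vectors of trace `t` and norm `n` -/
theorem card_Gam [Fintype K] (n t : K) :
    Nat.card ↥(Gam n t) = Fintype.card K ^ 3 * (Fintype.card K ^ 3 - 1) +
      Fintype.card K ^ 3 * (Finset.univ.filter fun α : K => α ^ 2 - t * α + n = 0).card := by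
  classical
  have hq : 0 < Fintype.card K := Fintype.card_pos
  rw [Nat.card_congr (gamEquiv n t), Nat.card_eq_fintype_card, Fintype.card_subtype]
  have h1 : (Finset.univ.filter fun p : K × (Fin 3 → K) × (Fin 3 → K) =>
      dl p.2.1 p.2.2 = p.1 * (t - p.1) - n).card =
      ∑ α : K, ∑ a : Fin 3 → K, (Finset.univ.filter fun b : Fin 3 → K => dl a b = α * (t - α) - n).card := by
    rw [Finset.card_filter, Fintype.sum_prod_type]
    refine Finset.sum_congr rfl fun α _ => ?_
    rw [Fintype.sum_prod_type]
    refine Finset.sum_congr rfl fun a _ => ?_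
    rw [Finset.card_filter]
  rw [h1]
  have h2 : ∀ (c : K) (a : Fin 3 → K), a ≠ 0 →
      (Finset.univ.filter fun b : Fin 3 → K => dl a b = c).card = Fintype.card K ^ 2 := by
    intro c a ha
    have h3 := card_fib (dl a) (dl_surj ha) c
    rw [Fintype.card_fun, Fintype.card_fin, pow_succ] at h3
    exact Nat.eq_of_mul_eq_mul_right hq h3
  have h4 : ∀ c : K, ∑ a : Fin 3 → K, (Finset.univ.filter fun b : Fin 3 → K => dl a b = c).card =
      (if c = 0 then Fintype.card K ^ 3 else 0) + (Fintype.card K ^ 3 - 1) * Fintype.card K ^ 2 := by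
    intro c
    rw [← Finset.add_sum_erase _ _ (Finset.mem_univ (0 : Fin 3 → K))]
    congr 1
    · by_cases hc : c = 0
      · rw [if_pos hc]
        have : (Finset.univ.filter fun b : Fin 3 → K => dl (0 : Fin 3 → K) b = c) = Finset.univ := by
          rw [Finset.filter_eq_self]
          intro b _
          rw [dl_apply, hc]
          simp
        rw [this, Finset.card_univ, Fintype.card_fun, Fintype.card_fin]
      · rw [if_neg hc, Finset.card_eq_zero, Finset.filter_eq_empty_iff]
        intro b _ h
        apply hc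
        rw [← h, dl_apply]
        simp
    · rw [Finset.sum_congr rfl fun a ha => h2 c a (Finset.ne_of_mem_erase ha), Finset.sum_const,
        Finset.card_erase_of_mem (Finset.mem_univ _), Finset.card_univ, Fintype.card_fun, Fintype.card_fin,
        smul_eq_mul]
  rw [Finset.sum_congr rfl fun α _ => h4 (α * (t - α) - n), Finset.sum_add_distrib, Finset.sum_const,
    Finset.card_univ, smul_eq_mul, add_comm]
  congr 1
  · ring
  · rw [← Finset.sum_filter, Finset.sum_const, smul_eq_mul, mul_comm]
    congr 2
    ext α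
    simp only [Finset.mem_filter, Finset.mem_univ, true_and]
    constructor
    · intro h; linear_combination -h
    · intro h; linear_combination -h

/-! ### transitivity -/

/-- a Weyl group element -/
def w2m : Matrix (Fin 3) (Fin 3) K := !![1, 0, 0; 0, 0, 1; 0, -1, 0]

theorem w2m_det : (w2m : Matrix (Fin 3) (Fin 3) K).det = 1 := by
  rw [det3]; simp [w2m]

theorem exists_wn_wp (n t : K) : ∃ g ∈ AutO K, g (wn n t) = wp n t := by
  refine ⟨sl w2m w2m_det, sl_mem _ _, ?_⟩
  apply ext8
  · rfl
  · rw [sl_apply, slF1]; simp [w2m, wn, wp]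
  · rw [sl_apply, slF2]; simp [w2m, wn, wp]
  · rw [sl_apply, slF3]; simp [w2m, wn, wp]
  · rw [sl_apply, slF4]; simp [w2m, wn, wp]
  · rw [sl_apply, slF5]; simp [w2m, wn, wp]
  · rw [sl_apply, slF6]; simp [w2m, wn, wp]
  · rfl

theorem exists_of_mem_Gam (hK : ∃ a : K, a ≠ 0 ∧ a ≠ 1) {n t : K} (hd : t ^ 2 ≠ 4 * n) {w : V K}
    (hw : w ∈ Gam n t) : ∃ g ∈ AutO K, g w = wp n t := by
  obtain ⟨h1, h2⟩ := hw
  by_cases hp : Perp w
  · obtain ⟨p, hp1, hp2⟩ := exists_of_perp hK hp (by rw [h1, h2]; exact hd)
    exact ⟨p, hp1.1, by rw [hp2, h1, h2]⟩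
  · obtain ⟨p, hp1, hp2⟩ := exists_of_not_perp hp
    obtain ⟨g, hg1, hg2⟩ := exists_wn_wp n t
    refine ⟨g * p, (AutO K).mul_mem hg1 hp1.1, ?_⟩
    rw [LinearEquiv.mul_apply, hp2, h1, h2, hg2]

/-- the action of `AutO K` on the vectors -/
theorem card_LL_mul [Fintype K] (hK : ∃ a : K, a ≠ 0 ∧ a ≠ 1) {n t : K} (hd : t ^ 2 ≠ 4 * n) :
    Nat.card ↥(Gam n t) * Nat.card ↥(LL n t) = Nat.card ↥(AutO K) := by
  haveI : Finite (V K ≃ₗ[K] V K) := Finite.of_injective (fun f => (f : V K → V K)) DFunLike.coe_injective
  -- the quotient by the stabilizer is the orbit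
  let f : ↥(AutO K) → ↥(Gam n t) := fun g => ⟨g.1 (wp n t), by
    refine ⟨?_, ?_⟩
    · rw [map_tr g.2, tr_wp]
    · rw [map_nm g.2, nm_wp]⟩
  have hf : ∀ a b : ↥(AutO K), f a = f b ↔ a⁻¹ * b ∈ LL n t := by
    intro a b
    rw [mem_LL]
    show _ ↔ (a.1⁻¹ * b.1) (wp n t) = _
    rw [LinearEquiv.mul_apply]
    constructor
    · intro h
      have h1 : a.1 (wp n t) = b.1 (wp n t) := congrArg Subtype.val h
      rw [← h1, inv_apply_self]
    · intro h
      apply Subtype.ext
      show a.1 (wp n t) = b.1 (wp n t)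
      rw [← h, apply_inv_self, h]
  have hsurj : Function.Surjective f := by
    rintro ⟨w, hw⟩
    obtain ⟨g, hg, e⟩ := exists_of_mem_Gam hK hd hw
    refine ⟨⟨g⁻¹, (AutO K).inv_mem hg⟩, ?_⟩
    apply Subtype.ext
    show g⁻¹ (wp n t) = w
    rw [← e, inv_apply_self]
  let F : ↥(AutO K) ⧸ LL n t → ↥(Gam n t) :=
    Quotient.lift f fun a b h => (hf a b).2 (QuotientGroup.leftRel_apply.1 h)
  have hF : Function.Bijective F := by
    constructor
    · intro a b
      refine Quotient.inductionOn₂ a b fun a b h => ?_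
      exact Quotient.sound (QuotientGroup.leftRel_apply.2 ((hf a b).1 h))
    · intro w
      obtain ⟨g, hg⟩ := hsurj w
      exact ⟨Quotient.mk _ g, hg⟩
  rw [← Nat.card_congr (Equiv.ofBijective F hF)]
  exact (Subgroup.card_eq_card_quotient_mul_card_subgroup (LL n t)).symm

/-- the index of the pointwise stabilizer in the stabilizer is 1 or 2 -/
theorem card_MM [Fintype K] {n t : K} (hd : t ^ 2 ≠ 4 * n) :
    Nat.card ↥(MM n t) = Nat.card ↥(LL n t) ∨ Nat.card ↥(MM n t) = 2 * Nat.card ↥(LL n t) := by
  haveI : Finite (V K ≃ₗ[K] V K) := Finite.of_injective (fun f => (f : V K → V K)) DFunLike.coe_injective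
  have h1 : ∀ g ∈ MM n t, g ∉ LL n t → g.1 (wp n t) = t • o - wp n t := by
    intro g hg hg'
    have h2 := EE_comb (mem_MM_iff.1 hg)
    have ht := map_tr g.2 (wp n t)
    have hn := map_nm g.2 (wp n t)
    obtain ⟨a, b, hab⟩ : ∃ a b : K, g.1 (wp n t) = a • o + b • wp n t := ⟨_, _, h2⟩
    rw [tr_wp, hab] at ht
    rw [nm_wp, hab] at hn
    have ht' : 2 * a + b * t = t := by
      simp [tr, o, wp] at ht
      linear_combination ht
    have hn' : a ^ 2 + a * b * t + b ^ 2 * n = n := by
      simp [nm, o, wp] at hn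
      linear_combination hn
    have hb : (b - 1) * (b + 1) = 0 := by
      have : ((b - 1) * (b + 1)) * (t ^ 2 - 4 * n) = 0 := by
        linear_combination (2 * a + b * t + t) * ht' - 4 * hn'
      rcases mul_eq_zero.1 this with h | h
      · exact h
      · exact absurd (by linear_combination h) hd
    have ha : a * (a + b * t) = 0 := by
      linear_combination hn' - n * hb
    rw [hab]
    have key : a ≠ 0 ∨ b ≠ 1 := by
      by_contra hc
      push Not at hc
      apply hg'
      rw [mem_LL, hab, hc.1, hc.2]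
      simp
    rcases mul_eq_zero.1 hb with hb | hb
    · have hb1 : b = 1 := by linear_combination hb
      have ha0 : a ≠ 0 := key.resolve_right (by simp [hb1])
      have h3 : a = -t := by
        rcases mul_eq_zero.1 ha with h | h
        · exact absurd h ha0
        · rw [hb1] at h; linear_combination h
      have h4 : 2 * a = 0 := by rw [hb1] at ht'; linear_combination ht'
      have h5 : (2 : K) = 0 := by
        rcases mul_eq_zero.1 h4 with h | h
        · exact h
        · exact absurd h ha0
      have h6 : a = t := by linear_combination h3 - t * h5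
      have h7 : b = -1 := by linear_combination hb1 + h5
      rw [h6, h7]
      module
    · have hb1 : b = -1 := by linear_combination hb
      by_cases ha0 : a = 0
      · have h3 : 2 * t = 0 := by rw [ha0, hb1] at ht'; linear_combination -ht'
        rcases mul_eq_zero.1 h3 with h | h
        · exfalso
          rcases key with h4 | h4
          · exact h4 ha0
          · exact h4 (by rw [hb1]; linear_combination -h)
        · rw [ha0, hb1, h]; module
      · have h3 : a = t := by
          rcases mul_eq_zero.1 ha with h | h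
          · exact absurd h ha0
          · rw [hb1] at h; linear_combination h
        rw [h3, hb1]; module
  by_cases hc : MM n t ≤ LL n t
  · left
    rw [le_antisymm hc (LL_le_MM n t)]
  · right
    obtain ⟨g, hg, hg'⟩ := SetLike.not_le_iff_exists.1 hc
    have h2 : (LL n t).relIndex (MM n t) = 2 := by
      unfold Subgroup.relIndex
      rw [Subgroup.index_eq_two_iff]
      refine ⟨⟨g, hg⟩, fun b => ?_⟩
      rw [Subgroup.mem_subgroupOf, Subgroup.mem_subgroupOf]
      by_cases hb : (b : ↥(AutO K)) ∈ LL n t
      · right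
        refine ⟨hb, fun h3 => hg' ?_⟩
        have := (LL n t).mul_mem ((LL n t).inv_mem hb) h3
        simpa using this
      · left
        refine ⟨?_, hb⟩
        have e1 := h1 g hg hg'
        have e2 := h1 b b.2 hb
        rw [mem_LL]
        show (b.1.1 * g.1) (wp n t) = _
        rw [LinearEquiv.mul_apply, e1, map_sub, map_smul, map_o b.1.2, e2]
        module
    have h3 := ((LL n t).subgroupOf (MM n t)).card_mul_index
    rw [Nat.card_congr (Subgroup.subgroupOfEquivOfLe (LL_le_MM n t)).toEquiv] at h3
    rw [← h3, ← h2, mul_comm]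
    rfl

end Cfsg.Agent.H148.Oct
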